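import Cfsg.Agent.PlaneFour.Basic

/-!
A hyperoval labelled by six letters identifies a plane of order 4 with the model on letters and
synthemes; counts of independent 4-sets and hyperovals.
-/

set_option autoImplicit false
set_option linter.unusedSectionVars false

namespace Cfsg.Agent.PlaneFour

open Finset
open scoped Pointwise

/-- The fifteen synthemes, as fixed-point-free involutions of six letters. -/
abbrev Syn : Type := {π : Equiv.Perm (Fin 6) // ∀ i, π (π i) = i ∧ π i ≠ i}

/-- The points of the model. -/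
abbrev ModelPt : Type := Fin 6 ⊕ Syn

theorem card_syn : Fintype.card Syn = 15 := by decide +kernel

/-- A secant of the model. -/
def duadLine (i j : Fin 6) : Finset ModelPt :=
  ({i, j} : Finset (Fin 6)).map Function.Embedding.inl ∪
    ((Finset.univ : Finset Syn).filter fun π => π.1 i = j).map Function.Embedding.inr

/-- The totals: five synthemes with no common duad. -/
def totals : Finset (Finset Syn) :=
  ((Finset.univ : Finset Syn).powersetCard 5).filter fun t =>
    ∀ π ∈ t, ∀ ρ ∈ t, π ≠ ρ → ∀ i, π.1 i ≠ ρ.1 i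

theorem card_totals : totals.card = 6 := by decide +kernel

/-- The lines of the model. -/
def modelLines : Finset (Finset ModelPt) :=
  (((Finset.univ : Finset (Fin 6 × Fin 6)).filter fun x => x.1 < x.2).image
      fun x => duadLine x.1 x.2) ∪ totals.image fun t => t.map Function.Embedding.inr

theorem duadLine_comm (i j : Fin 6) : duadLine i j = duadLine j i := by
  unfold duadLine
  rw [Finset.pair_comm]
  congr 2
  ext π
  simp only [Finset.mem_filter, Finset.mem_univ, true_and]
  exact ⟨fun h => h ▸ (π.2 i).1, fun h => h ▸ (π.2 j).1⟩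

theorem card_modelLines : modelLines.card ≤ 21 := by
  refine (Finset.card_union_le _ _).trans ?_
  refine le_trans (Nat.add_le_add Finset.card_image_le Finset.card_image_le) ?_
  rw [card_totals]
  decide +kernel

variable {α : Type*} [Fintype α] [DecidableEq α] {L : Set (Finset α)} {H : Finset α}

theorem IsPlane.oval_line (P : IsPlane L) (hH6 : H.card = 6) (hH : IsArc L H) {l : Finset α}
    (hl : l ∈ L) {a : α} (ha : a ∈ H) (hal : a ∈ l) : (l ∩ H).card = 2 := by
  have hb : ∀ b ∈ H.erase a, ln L a b ∈ (lines L).filter fun m => a ∈ m := fun b hb => by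
    have := P.ln_spec (Finset.ne_of_mem_erase hb).symm
    exact Finset.mem_filter.mpr ⟨mem_lines.mpr this.1, this.2.1⟩
  have hinj : Set.InjOn (ln L a) (H.erase a : Finset α) := by
    intro b hb c hc e
    obtain ⟨hl', ha', hb'⟩ := P.ln_spec (Finset.ne_of_mem_erase hb).symm
    obtain ⟨-, -, hc'⟩ := P.ln_spec (Finset.ne_of_mem_erase hc).symm
    have : c ∈ ln L a b ∩ H := Finset.mem_inter.mpr ⟨e ▸ hc', Finset.mem_of_mem_erase hc⟩
    rw [hH.eq_pair hl' (Finset.ne_of_mem_erase hb).symm ⟨ha', ha⟩
      ⟨hb', Finset.mem_of_mem_erase hb⟩] at this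
    simp only [Finset.mem_insert, Finset.mem_singleton] at this
    exact (this.resolve_left (Finset.ne_of_mem_erase hc)).symm
  have himg : (H.erase a).image (ln L a) = (lines L).filter fun m => a ∈ m := by
    refine Finset.eq_of_subset_of_card_le (Finset.image_subset_iff.mpr hb) ?_
    rw [P.card_pencil, Finset.card_image_of_injOn hinj, Finset.card_erase_of_mem ha, hH6]
  have : l ∈ (H.erase a).image (ln L a) := himg ▸ Finset.mem_filter.mpr ⟨mem_lines.mpr hl, hal⟩
  obtain ⟨b, hb', rfl⟩ := Finset.mem_image.mp this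
  have hne := (Finset.ne_of_mem_erase hb').symm
  rw [hH.eq_pair hl hne ⟨hal, ha⟩ ⟨(P.ln_spec hne).2.2, Finset.mem_of_mem_erase hb'⟩,
    Finset.card_pair hne]

/-- A labelled hyperoval gives coordinates. -/
theorem IsPlane.exists_coord (P : IsPlane L) (hH6 : H.card = 6) (hH : IsArc L H)
    (e : Fin 6 ≃ ↥H) :
    ∃ Φ : α ≃ ModelPt, (∀ i, Φ (e i) = Sum.inl i) ∧
      (fun l => l.image Φ) '' L = (modelLines : Set (Finset ModelPt)) ∧
      ∀ (p : α) (π : Syn), Φ p = Sum.inr π → ∀ i j : Fin 6, π.1 i = j →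
        ∃ l ∈ L, p ∈ l ∧ (e i : α) ∈ l ∧ (e j : α) ∈ l := by
  classical
  have other : ∀ p : α, p ∉ H → ∀ i : Fin 6, ∃ j : Fin 6, j ≠ i ∧ (e j : α) ∈ ln L p (e i) := by
    intro p hp i
    have hne : p ≠ (e i : α) := fun h => hp (h ▸ (e i).2)
    obtain ⟨hl, -, hi⟩ := P.ln_spec hne
    obtain ⟨b, hb, hb'⟩ := Finset.exists_mem_ne (s := ln L p (e i) ∩ H)
      (by rw [P.oval_line hH6 hH hl (e i).2 hi]; norm_num) (e i : α)
    rw [Finset.mem_inter] at hb
    refine ⟨e.symm ⟨b, hb.2⟩, fun h => hb' ?_, by simpa using hb.1⟩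
    rw [← h, Equiv.apply_symm_apply]
  choose o ho1 ho2 using other
  have ouniq : ∀ p (hp : p ∉ H) (i j : Fin 6), j ≠ i → (e j : α) ∈ ln L p (e i) → j = o p hp i := by
    intro p hp i j hji hj
    obtain ⟨hl, -, hi⟩ := P.ln_spec (show p ≠ (e i : α) from fun h => hp (h ▸ (e i).2))
    have : (e j : α) ∈ ln L p (e i) ∩ H := Finset.mem_inter.mpr ⟨hj, (e j).2⟩
    have hne : (e i : α) ≠ (e (o p hp i) : α) := fun h =>
      ho1 p hp i (e.injective (Subtype.ext h)).symm
    rw [hH.eq_pair hl hne ⟨hi, (e i).2⟩ ⟨ho2 p hp i, (e _).2⟩] at this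
    simp only [Finset.mem_insert, Finset.mem_singleton] at this
    rcases this with h | h
    · exact absurd (e.injective (Subtype.ext h)) hji
    · exact e.injective (Subtype.ext h)
  have oline : ∀ p (hp : p ∉ H) (i : Fin 6), ln L p (e (o p hp i)) = ln L p (e i) := fun p hp i =>
    have h := P.ln_spec (show p ≠ (e i : α) from fun h => hp (h ▸ (e i).2))
    (P.eq_ln (fun h => hp (by rw [h]; exact Subtype.coe_prop _)) h.1 h.2.1 (ho2 p hp i)).symm
  have oinv : ∀ p (hp : p ∉ H) (i : Fin 6), o p hp (o p hp i) = i := fun p hp i =>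
    (ouniq p hp (o p hp i) i (ho1 p hp i).symm (by
      rw [oline p hp i]; exact (P.ln_spec (fun h => hp (by rw [h]; exact Subtype.coe_prop _))).2.2)).symm
  let syn : ∀ p, p ∉ H → Syn := fun p hp =>
    ⟨⟨o p hp, o p hp, oinv p hp, oinv p hp⟩, fun i => ⟨oinv p hp i, ho1 p hp i⟩⟩
  let φ : α → ModelPt := fun p =>
    if hp : p ∈ H then Sum.inl (e.symm ⟨p, hp⟩) else Sum.inr (syn p hp)
  have φH : ∀ i, φ (e i) = Sum.inl i := fun i => by simp [φ, (e i).2]
  have hinj : Function.Injective φ := by
    intro p q h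
    by_cases hp : p ∈ H <;> by_cases hq : q ∈ H <;> simp [φ, hp, hq] at h
    · exact h
    · by_contra hne
      -- two points on three common secants
      have hline : ∀ i, ln L p (e i) = ln L p q := by
        intro i
        have hpe : p ≠ (e i : α) := fun h => hp (h ▸ (e i).2)
        have hqe : q ≠ (e i : α) := fun h => hq (h ▸ (e i).2)
        have ho : o p hp i = o q hq i := congrArg (fun π : Syn => π.1 i) h
        have h1 := P.ln_spec hpe
        have h2 := P.ln_spec hqe
        have := P.line_eq h1.1 h2.1 (show (e i : α) ≠ (e (o p hp i) : α) from fun h =>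
          ho1 p hp i (e.injective (Subtype.ext h)).symm) h1.2.2 (ho2 p hp i) h2.2.2
          (ho ▸ ho2 q hq i)
        exact P.eq_ln hne h1.1 h1.2.1 (this ▸ h2.2.1)
      have hl := (P.ln_spec hne).1
      have hsub : H ⊆ ln L p q ∩ H := by
        intro a ha
        refine Finset.mem_inter.mpr ⟨?_, ha⟩
        have := (P.ln_spec (show p ≠ a from fun h => hp (h ▸ ha))).2.2
        have h' := hline (e.symm ⟨a, ha⟩)
        simp only [Equiv.apply_symm_apply] at h'
        rwa [← h']
      have := (Finset.card_le_card hsub).trans (hH _ hl)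
      omega
  have hbij : Function.Bijective φ := by
    rw [Fintype.bijective_iff_injective_and_card]
    refine ⟨hinj, ?_⟩
    rw [P.card_points, Fintype.card_sum, card_syn, Fintype.card_fin]
  have hpi : ∀ (p : α) (π : Syn), φ p = Sum.inr π → ∃ hp : p ∉ H, ∀ i, π.1 i = o p hp i := by
    intro p π h
    by_cases hp : p ∈ H <;> simp [φ, hp] at h
    exact ⟨hp, fun i => h ▸ rfl⟩
  refine ⟨Equiv.ofBijective φ hbij, φH, ?_, ?_⟩
  · have hfun : ∀ l : Finset α, l.image (Equiv.ofBijective φ hbij) = l.image φ := fun l => rfl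
    simp only [hfun]
    have hsub : (lines L).image (fun l => l.image φ) ⊆ modelLines := by
      intro m hm
      obtain ⟨l, hl, rfl⟩ := Finset.mem_image.mp hm
      rw [mem_lines] at hl
      have hcard : (l.image φ).card = 5 := by
        rw [Finset.card_image_of_injective _ hinj, P.steiner.1 l hl]
      by_cases hmeet : ∃ a ∈ H, a ∈ l
      · obtain ⟨a, ha, hal⟩ := hmeet
        set i := e.symm ⟨a, ha⟩
        obtain ⟨b, hb, hb'⟩ := Finset.exists_mem_ne (s := l ∩ H)
          (by rw [P.oval_line hH6 hH hl ha hal]; norm_num) a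
        rw [Finset.mem_inter] at hb
        set j := e.symm ⟨b, hb.2⟩
        have hij : i ≠ j := fun h => hb' (congrArg Subtype.val (e.symm.injective h)).symm
        have hd : l.image φ = duadLine i j := by
          refine Finset.eq_of_subset_of_card_le ?_ ?_
          · intro x hx
            obtain ⟨p, hp, rfl⟩ := Finset.mem_image.mp hx
            by_cases hpH : p ∈ H
            · have : p ∈ l ∩ H := Finset.mem_inter.mpr ⟨hp, hpH⟩
              rw [hH.eq_pair hl hb'.symm ⟨hal, ha⟩ hb] at this
              simp only [Finset.mem_insert, Finset.mem_singleton] at this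
              rcases this with rfl | rfl <;> simp [duadLine, φ, hpH, i, j]
            · have h1 : l = ln L p (e i) :=
                P.eq_ln (fun h => hpH (by rw [h]; exact Subtype.coe_prop _)) hl hp (by simpa [i] using hal)
              have : j = o p hpH i := ouniq p hpH i j hij.symm (h1 ▸ by simpa [j] using hb.1)
              simp [duadLine, φ, hpH, this, syn]
          · rw [hcard, duadLine]
            refine (Finset.card_union_le _ _).trans ?_
            rw [Finset.card_map, Finset.card_map, Finset.card_pair hij]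
            have h3 : ∀ i j : Fin 6, i ≠ j →
                ((Finset.univ : Finset Syn).filter fun π => π.1 i = j).card = 3 := by decide +kernel
            rw [h3 i j hij]
        rw [hd]
        refine Finset.mem_union_left _ (Finset.mem_image.mpr ?_)
        rcases lt_or_gt_of_ne hij with h | h
        · exact ⟨(i, j), by simp [h], rfl⟩
        · exact ⟨(j, i), by simp [h], duadLine_comm j i⟩
      · push Not at hmeet
        have hext : ∀ p ∈ l, p ∉ H := fun p hp hpH => hmeet p hpH hp
        refine Finset.mem_union_right _ (Finset.mem_image.mpr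
          ⟨(l.attach).image (fun p => syn p.1 (hext p.1 p.2)), ?_, ?_⟩)
        · refine Finset.mem_filter.mpr ⟨Finset.mem_powersetCard.mpr ⟨Finset.subset_univ _, ?_⟩, ?_⟩
          · rw [Finset.card_image_of_injective, Finset.card_attach, P.steiner.1 l hl]
            intro p q h
            exact Subtype.ext (hinj (by simp [φ, hext _ p.2, hext _ q.2, h]))
          · intro π hπ ρ hρ hne i hi
            obtain ⟨⟨p, hp⟩, -, rfl⟩ := Finset.mem_image.mp hπ
            obtain ⟨⟨q, hq⟩, -, rfl⟩ := Finset.mem_image.mp hρ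
            have hpq : p ≠ q := by rintro rfl; exact hne rfl
            have h1 := P.ln_spec (show p ≠ (e i : α) from fun h => hext p hp (h ▸ (e i).2))
            have h2 := P.ln_spec (show q ≠ (e i : α) from fun h => hext q hq (h ▸ (e i).2))
            have hi' : o p (hext p hp) i = o q (hext q hq) i := hi
            have := P.line_eq h1.1 h2.1 (show (e i : α) ≠ (e (o p (hext p hp) i) : α) from fun h =>
              ho1 _ _ _ (e.injective (Subtype.ext h)).symm) h1.2.2 (ho2 _ _ _) h2.2.2
              (hi' ▸ ho2 _ _ _)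
            have hl2 := P.line_eq h1.1 hl hpq h1.2.1 (this ▸ h2.2.1) hp hq
            exact hmeet _ (e i).2 (hl2 ▸ h1.2.2)
        · ext x
          simp only [Finset.mem_map, Finset.mem_image, Finset.mem_attach, true_and]
          constructor
          · rintro ⟨π, ⟨⟨p, hp⟩, rfl⟩, rfl⟩
            exact ⟨p, hp, by simp [φ, hext p hp]⟩
          · rintro ⟨p, hp, rfl⟩
            exact ⟨_, ⟨⟨p, hp⟩, rfl⟩, by simp [φ, hext p hp]⟩
    have heq : (lines L).image (fun l => l.image φ) = modelLines := by
      refine Finset.eq_of_subset_of_card_le hsub ?_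
      rw [Finset.card_image_of_injective _ (Finset.image_injective hinj), P.card_lines]
      exact card_modelLines
    rw [← heq, Finset.coe_image]
    congr 1
    ext l
    simp [mem_lines]
  · intro p π h i j hij
    obtain ⟨hp, hp'⟩ := hpi p π h
    have h1 := P.ln_spec (show p ≠ (e i : α) from fun h => hp (h ▸ (e i).2))
    exact ⟨_, h1.1, h1.2.1, h1.2.2, hij ▸ hp' i ▸ ho2 p hp i⟩

theorem IsPlane.exists_arc_three (P : IsPlane L) : ∃ S : Finset α, S.card = 3 ∧ IsArc L S := by
  obtain ⟨a, b, hab⟩ := Fintype.exists_pair_of_one_lt_card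
    (show 1 < Fintype.card α by rw [P.card_points]; norm_num)
  obtain ⟨hl, ha, hb⟩ := P.ln_spec hab
  obtain ⟨c, -, hc⟩ := Finset.exists_mem_notMem_of_card_lt_card
    (show (ln L a b).card < (Finset.univ : Finset α).card by
      rw [P.steiner.1 _ hl, Finset.card_univ, P.card_points]; norm_num)
  have hca : c ≠ a := fun h => hc (h ▸ ha)
  have hcb : c ≠ b := fun h => hc (h ▸ hb)
  refine ⟨{a, b, c}, Finset.card_eq_three.mpr ⟨a, b, c, hab, hca.symm, hcb.symm, rfl⟩, fun m hm => ?_⟩
  by_contra hgt
  have hsub : ({a, b, c} : Finset α) ⊆ m := by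
    have he : m ∩ {a, b, c} = {a, b, c} := Finset.eq_of_subset_of_card_le Finset.inter_subset_right
      (by rw [Finset.card_eq_three.mpr ⟨a, b, c, hab, hca.symm, hcb.symm, rfl⟩]; omega)
    exact he ▸ Finset.inter_subset_left
  exact hc (P.line_eq hm hl hab (hsub (by simp)) (hsub (by simp)) ha hb ▸ hsub (by simp))

theorem IsPlane.exists_hyperoval (P : IsPlane L) : ∃ H : Finset α, H.card = 6 ∧ IsArc L H := by
  obtain ⟨S, hS, hA⟩ := P.exists_arc_three
  obtain ⟨p, hp⟩ := Finset.card_pos.mp (show 0 < (offSecants L S).card by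
    rw [P.card_offSecants_three hA hS]; norm_num)
  obtain ⟨H, ⟨h, -⟩, -⟩ := P.existsUnique_hyperoval
    (S := insert p S) (by rw [Finset.card_insert_of_notMem (mem_offSecants.mp hp).1, hS])
    (P.arc_insert hA hp)
  exact ⟨H, h⟩

/-- The arcs of a given size. -/
noncomputable def arcs (L : Set (Finset α)) (k : ℕ) : Finset (Finset α) :=
  (Finset.univ.powersetCard k).filter fun S => ∀ l ∈ lines L, (l ∩ S).card ≤ 2

theorem mem_arcs {k : ℕ} {S : Finset α} : S ∈ arcs L k ↔ S.card = k ∧ IsArc L S := by
  simp only [arcs, Finset.mem_filter, Finset.mem_powersetCard, Finset.subset_univ, true_and,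
    mem_lines, IsArc]

theorem coe_arcs (k : ℕ) :
    {S : Finset α | S.card = k ∧ ∀ l ∈ L, (l ∩ S).card ≤ 2} = ↑(arcs L k) := by
  ext S
  exact (mem_arcs (L := L) (k := k) (S := S)).symm

theorem IsPlane.card_arcs_three (P : IsPlane L) : (arcs L 3).card = 1120 := by
  have h1 : (Finset.univ.powersetCard 3 : Finset (Finset α)).card = 1330 := by
    rw [Finset.card_powersetCard, Finset.card_univ, P.card_points]; rfl
  have h2 : ((lines L).biUnion fun l => l.powersetCard 3).card = 210 := by
    rw [Finset.card_biUnion, Finset.sum_congr rfl (g := fun _ => 10), Finset.sum_const,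
      P.card_lines]
    · rfl
    · intro l hl
      rw [Finset.card_powersetCard, P.steiner.1 l (mem_lines.mp hl)]; rfl
    · intro l hl m hm hne
      rw [Function.onFun, Finset.disjoint_left]
      intro T hT hT'
      rw [Finset.mem_powersetCard] at hT hT'
      have := (Finset.card_le_card (Finset.subset_inter hT.1 hT'.1)).trans
        (P.card_inter_le (mem_lines.mp hl) (mem_lines.mp hm) hne)
      omega
  have e : arcs L 3 = (Finset.univ.powersetCard 3) \ (lines L).biUnion fun l => l.powersetCard 3 := by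
    ext S
    simp only [arcs, Finset.mem_filter, Finset.mem_sdiff, Finset.mem_biUnion,
      Finset.mem_powersetCard, Finset.subset_univ, true_and, not_exists, not_and]
    refine and_congr_right fun hS => ⟨fun h l hl hsub _ => ?_, fun h l hl => ?_⟩
    · have := h l hl
      rw [Finset.inter_eq_right.mpr hsub] at this
      omega
    · by_contra hgt
      have he : l ∩ S = S := Finset.eq_of_subset_of_card_le Finset.inter_subset_right (by omega)
      exact h l hl (Finset.inter_eq_right.mp he) hS
  rw [e, Finset.card_sdiff_of_subset, h1, h2]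
  intro T hT
  obtain ⟨l, -, hT⟩ := Finset.mem_biUnion.mp hT
  exact Finset.mem_powersetCard.mpr ⟨Finset.subset_univ _, (Finset.mem_powersetCard.mp hT).2⟩

theorem IsPlane.card_arcs_four (P : IsPlane L) : (arcs L 4).card = 2520 := by

  have hcount : ∑ T ∈ arcs L 3, (offSecants L T).card = ∑ S ∈ arcs L 4, S.card := by
    rw [← Finset.card_sigma, ← Finset.card_sigma]
    refine Finset.card_bij' (fun x _ => ⟨insert x.2 x.1, x.2⟩) (fun y _ => ⟨y.1.erase y.2, y.2⟩)
      ?_ ?_ ?_ ?_
    · rintro ⟨T, p⟩ hx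
      obtain ⟨hT, hp⟩ := Finset.mem_sigma.mp hx
      obtain ⟨hT3, hTA⟩ := mem_arcs.mp hT
      refine Finset.mem_sigma.mpr ⟨mem_arcs.mpr ⟨?_, P.arc_insert hTA hp⟩, Finset.mem_insert_self _ _⟩
      rw [Finset.card_insert_of_notMem (mem_offSecants.mp hp).1, hT3]
    · rintro ⟨S, p⟩ hy
      obtain ⟨hS, hp⟩ := Finset.mem_sigma.mp hy
      obtain ⟨hS4, hSA⟩ := mem_arcs.mp hS
      refine Finset.mem_sigma.mpr ⟨mem_arcs.mpr
        ⟨by rw [Finset.card_erase_of_mem hp, hS4], hSA.mono (Finset.erase_subset _ _)⟩,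
        mem_offSecants.mpr ⟨Finset.notMem_erase _ _, fun l hl h2 hpl => ?_⟩⟩
      have := hSA l hl
      rw [← Finset.insert_erase hp, Finset.inter_comm, Finset.insert_inter_of_mem hpl,
        Finset.card_insert_of_notMem (by simp), Finset.inter_comm] at this
      dsimp only at this h2
      omega
    · rintro ⟨T, p⟩ hx
      simp only
      rw [Finset.erase_insert (mem_offSecants.mp (Finset.mem_sigma.mp hx).2).1]
    · rintro ⟨S, p⟩ hy
      simp only
      rw [Finset.insert_erase (Finset.mem_sigma.mp hy).2]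
  rw [Finset.sum_congr rfl (g := fun _ => 9) (fun T hT => P.card_offSecants_three (mem_arcs.mp hT).2
      (mem_arcs.mp hT).1),
    Finset.sum_congr rfl (g := fun _ => 4) (s₁ := arcs L 4) (fun S hS => (mem_arcs.mp hS).1),
    Finset.sum_const, Finset.sum_const, P.card_arcs_three, smul_eq_mul, smul_eq_mul] at hcount
  omega

theorem IsPlane.card_hyperovals (P : IsPlane L) : (arcs L 6).card = 168 := by
  have hcount : ∑ H ∈ arcs L 6, (H.powersetCard 4).card = (arcs L 4).card := by
    rw [← Finset.card_biUnion]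
    · congr 1
      ext S
      simp only [Finset.mem_biUnion, Finset.mem_powersetCard]
      constructor
      · rintro ⟨H, hH, hsub, hS⟩
        exact mem_arcs.mpr ⟨hS, (mem_arcs.mp hH).2.mono hsub⟩
      · intro hS
        obtain ⟨hS4, hSA⟩ := mem_arcs.mp hS
        obtain ⟨H, ⟨hH, hsub⟩, -⟩ := P.existsUnique_hyperoval hS4 hSA
        exact ⟨H, mem_arcs.mpr hH, hsub, hS4⟩
    · intro H hH K hK hne
      rw [Function.onFun, Finset.disjoint_left]
      intro S hS hS'
      rw [Finset.mem_powersetCard] at hS hS'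
      have hHA := (mem_arcs.mp hH)
      obtain ⟨M, -, hu⟩ := P.existsUnique_hyperoval hS.2 (hHA.2.mono hS.1)
      exact hne ((hu H ⟨hHA, hS.1⟩).trans (hu K ⟨mem_arcs.mp hK, hS'.1⟩).symm)
  rw [Finset.sum_congr rfl (g := fun _ => 15), Finset.sum_const, P.card_arcs_four,
    smul_eq_mul] at hcount
  · omega
  · intro H hH
    rw [Finset.card_powersetCard, (mem_arcs.mp hH).1]; rfl

theorem coord_ext {β : Type*} [DecidableEq β] {L' : Set (Finset β)} {Φ : α ≃ ModelPt}
    {Ψ : β ≃ ModelPt} (hΦ : (fun l => l.image Φ) '' L = (modelLines : Set (Finset ModelPt)))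
    (hΨ : (fun l => l.image Ψ) '' L' = (modelLines : Set (Finset ModelPt))) :
    (fun l => l.image (Φ.trans Ψ.symm)) '' L = L' := by
  have e : (fun l : Finset α => l.image (Φ.trans Ψ.symm)) =
      (fun m : Finset ModelPt => m.image Ψ.symm) ∘ fun l => l.image Φ := by
    funext l; simp [Finset.image_image, Function.comp_def]
  rw [e, Set.image_comp, hΦ, ← hΨ, ← Set.image_comp]
  have : (fun m : Finset ModelPt => m.image Ψ.symm) ∘ (fun l : Finset β => l.image Ψ) = id := by
    funext l; simp [Finset.image_image, Function.comp_def]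
  rw [this, Set.image_id]

theorem iso_of_planes {β : Type*} [Fintype β] [DecidableEq β] {L' : Set (Finset β)}
    (P : IsPlane L) (P' : IsPlane L') : Cfsg.SetSystemIso L L' := by
  obtain ⟨H, hH⟩ := P.exists_hyperoval
  obtain ⟨K, hK⟩ := P'.exists_hyperoval
  obtain ⟨Φ, -, hΦ, -⟩ := P.exists_coord hH.1 hH.2 (H.equivFinOfCardEq hH.1).symm
  obtain ⟨Ψ, -, hΨ, -⟩ := P'.exists_coord hK.1 hK.2 (K.equivFinOfCardEq hK.1).symm
  exact ⟨Φ.trans Ψ.symm, coord_ext hΦ hΨ⟩

theorem mem_setSystemAut_iff {g : Equiv.Perm α} :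
    g ∈ Cfsg.setSystemAut L ↔ (fun l : Finset α => l.image g) '' L = L := by
  rw [MulAction.mem_stabilizer_iff]
  exact Iff.rfl

theorem IsPlane.existsUnique_extension (P : IsPlane L) (hH6 : H.card = 6) (hH : IsArc L H)
    (σ : Equiv.Perm ↥H) :
    ∃! g : Equiv.Perm α, g ∈ Cfsg.setSystemAut L ∧ ∀ p : ↥H, g p = σ p := by
  classical
  set e : Fin 6 ≃ ↥H := (H.equivFinOfCardEq hH6).symm
  obtain ⟨Φ, hΦe, hΦ, hΦs⟩ := P.exists_coord hH6 hH e
  obtain ⟨Ψ, hΨe, hΨ, hΨs⟩ := P.exists_coord hH6 hH (e.trans σ)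
  refine ⟨Φ.trans Ψ.symm, ⟨mem_setSystemAut_iff.mpr (coord_ext hΦ hΨ), fun p => ?_⟩, ?_⟩
  · obtain ⟨i, rfl⟩ := e.surjective p
    rw [Equiv.trans_apply, hΦe, Equiv.symm_apply_eq]
    exact (hΨe i).symm
  · rintro g ⟨hg, hgσ⟩
    refine Equiv.ext fun p => ?_
    rw [Equiv.trans_apply, eq_comm, Equiv.symm_apply_eq]
    by_cases hp : p ∈ H
    · obtain ⟨i, hi⟩ := e.surjective ⟨p, hp⟩
      have hi' : p = (e i : α) := by rw [hi]
      rw [hi', hΦe, hgσ]
      exact (hΨe i).symm
    · obtain ⟨π, hπ⟩ : ∃ π, Φ p = Sum.inr π := by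
        cases h : Φ p with
        | inr π => exact ⟨π, rfl⟩
        | inl i => exact absurd (Φ.injective (h.trans (hΦe i).symm) ▸ (e i).2) hp
      have hgp : g p ∉ H := by
        intro hmem
        refine hp ?_
        obtain ⟨i, hi⟩ := (e.trans σ).surjective ⟨g p, hmem⟩
        have h2 : g (e i : α) = g p := by rw [hgσ]; exact congrArg Subtype.val hi
        exact g.injective h2 ▸ (e i).2
      obtain ⟨ρ, hρ⟩ : ∃ ρ, Ψ (g p) = Sum.inr ρ := by
        cases h : Ψ (g p) with
        | inr ρ => exact ⟨ρ, rfl⟩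
        | inl i => exact absurd (Ψ.injective (h.trans (hΨe i).symm) ▸ ((e.trans σ) i).2) hgp
      rw [hπ, hρ]
      congr 1
      refine Subtype.ext (Equiv.ext fun i => ?_)
      obtain ⟨l, hl, hpl, hil, hjl⟩ := hΦs p π hπ i _ rfl
      obtain ⟨m, hm, hpm, him, hjm⟩ := hΨs (g p) ρ hρ i _ rfl
      have hgl : l.image g ∈ L := by
        rw [mem_setSystemAut_iff] at hg
        exact hg ▸ Set.mem_image_of_mem (fun l : Finset α => l.image g) hl
      have hei : g (e i : α) = ((e.trans σ) i : α) := hgσ (e i)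
      have heq : l.image g = m := P.line_eq hgl hm (show g p ≠ ((e.trans σ) i : α) from
          fun h => hgp (h ▸ ((e.trans σ) i).2))
        (Finset.mem_image_of_mem g hpl) (hei ▸ Finset.mem_image_of_mem g hil) hpm him
      have hej : ((e.trans σ) (π.1 i) : α) ∈ m ∩ H := by
        refine Finset.mem_inter.mpr ⟨?_, ((e.trans σ) (π.1 i)).2⟩
        rw [← heq]
        exact hgσ (e (π.1 i)) ▸ Finset.mem_image_of_mem g hjl
      have hne : ((e.trans σ) i : α) ≠ ((e.trans σ) (ρ.1 i) : α) := fun h =>
        (ρ.2 i).2 ((e.trans σ).injective (Subtype.ext h)).symm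
      rw [hH.eq_pair hm hne ⟨him, ((e.trans σ) i).2⟩ ⟨hjm, ((e.trans σ) _).2⟩] at hej
      simp only [Finset.mem_insert, Finset.mem_singleton] at hej
      rcases hej with h | h
      · exact absurd ((e.trans σ).injective (Subtype.ext h)) (π.2 i).2
      · exact (e.trans σ).injective (Subtype.ext h)

end Cfsg.Agent.PlaneFour
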