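import Mathlib
import Cfsg.Prelude.Def_Sporadic_a
import Cfsg.Agent.Steiner.Count

/-!
Steiner systems S(2,5,21): lines, arcs, completion of four independent points to a hyperoval.
-/

set_option autoImplicit false
set_option linter.unusedSectionVars false

namespace Cfsg.Agent.PlaneFour

open Finset

/-- A plane of order 4. -/
structure IsPlane {α : Type*} [Fintype α] (L : Set (Finset α)) : Prop where
  card_points : Fintype.card α = 21
  steiner : Cfsg.IsSteinerSystem 2 5 L

variable {α : Type*} [Fintype α] [DecidableEq α] {L : Set (Finset α)}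

/-- No three points on a line. -/
def IsArc (L : Set (Finset α)) (S : Finset α) : Prop := ∀ l ∈ L, (l ∩ S).card ≤ 2

theorem IsArc.mono {S T : Finset α} (h : IsArc L T) (hST : S ⊆ T) : IsArc L S :=
  fun l hl => (Finset.card_le_card (Finset.inter_subset_inter le_rfl hST)).trans (h l hl)

theorem IsPlane.line_eq (P : IsPlane L) {l m : Finset α} (hl : l ∈ L) (hm : m ∈ L) {a b : α}
    (hab : a ≠ b) (hal : a ∈ l) (hbl : b ∈ l) (ham : a ∈ m) (hbm : b ∈ m) : l = m := by
  obtain ⟨n, -, hu⟩ := P.steiner.2 {a, b} (Finset.card_pair hab)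
  exact (hu l ⟨hl, by simp [Finset.insert_subset_iff, hal, hbl]⟩).trans
    (hu m ⟨hm, by simp [Finset.insert_subset_iff, ham, hbm]⟩).symm

theorem IsPlane.exists_line (P : IsPlane L) {a b : α} (hab : a ≠ b) :
    ∃ l ∈ L, a ∈ l ∧ b ∈ l := by
  obtain ⟨l, ⟨hl, hs⟩, -⟩ := P.steiner.2 {a, b} (Finset.card_pair hab)
  exact ⟨l, hl, hs (by simp), hs (by simp)⟩

theorem IsPlane.card_inter_le (P : IsPlane L) {l m : Finset α} (hl : l ∈ L) (hm : m ∈ L)
    (hne : l ≠ m) : (l ∩ m).card ≤ 1 := by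
  rw [Finset.card_le_one]
  intro a ha b hb
  rw [Finset.mem_inter] at ha hb
  by_contra hab
  exact hne (P.line_eq hl hm hab ha.1 hb.1 ha.2 hb.2)

/-- The lines as a finite set. -/
noncomputable def lines (L : Set (Finset α)) : Finset (Finset α) := Cfsg.Agent.SteinerCount.blocks L

theorem mem_lines {l : Finset α} : l ∈ lines L ↔ l ∈ L := Cfsg.Agent.SteinerCount.mem_blocks

theorem IsPlane.card_lines (P : IsPlane L) : (lines L).card = 21 := by
  have h := Cfsg.Agent.SteinerCount.blocks_through 2 5 P.steiner ∅ (by simp)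
  simp only [Finset.empty_subset, Finset.filter_true, Finset.card_empty, P.card_points] at h
  have e1 : Nat.choose (5 - 0) (2 - 0) = 10 := rfl
  have e2 : Nat.choose (21 - 0) (2 - 0) = 210 := rfl
  rw [e1, e2] at h
  show (Cfsg.Agent.SteinerCount.blocks L).card = 21
  omega

theorem IsPlane.card_pencil (P : IsPlane L) (p : α) :
    ((lines L).filter (fun l => p ∈ l)).card = 5 := by
  have h := Cfsg.Agent.SteinerCount.blocks_through 2 5 P.steiner {p} (by simp)
  simp only [Finset.card_singleton, Finset.singleton_subset_iff, P.card_points] at h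
  have e1 : Nat.choose (5 - 1) (2 - 1) = 4 := rfl
  have e2 : Nat.choose (21 - 1) (2 - 1) = 20 := rfl
  rw [e1, e2] at h
  show ((Cfsg.Agent.SteinerCount.blocks L).filter (fun l => p ∈ l)).card = 5
  omega

theorem IsPlane.meet (P : IsPlane L) {l m : Finset α} (hl : l ∈ L) (hm : m ∈ L) :
    ∃ p, p ∈ l ∧ p ∈ m := by
  by_contra h
  push Not at h
  obtain ⟨p, hp⟩ : m.Nonempty := Finset.card_pos.mp (by rw [P.steiner.1 m hm]; norm_num)
  have hpl : p ∉ l := fun h' => h p h' hp
  have hj : ∀ q ∈ l, ∃ n ∈ (lines L).filter (fun n => p ∈ n), q ∈ n := by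
    intro q hq
    obtain ⟨n, hn, hpn, hqn⟩ := P.exists_line (show p ≠ q from fun e => hpl (e ▸ hq))
    exact ⟨n, Finset.mem_filter.mpr ⟨mem_lines.mpr hn, hpn⟩, hqn⟩
  choose! f hf hqf using hj
  have hinj : Set.InjOn f l := by
    intro q hq r hr e
    have hn := hf q hq
    rw [Finset.mem_filter, mem_lines] at hn
    by_contra hne
    exact hpl (P.line_eq hn.1 hl hne (hqf q hq) (e ▸ hqf r hr) hq hr ▸ hn.2)
  have himg : l.image f = (lines L).filter (fun n => p ∈ n) := by
    refine Finset.eq_of_subset_of_card_le (Finset.image_subset_iff.mpr hf) ?_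
    rw [P.card_pencil, Finset.card_image_of_injOn hinj, P.steiner.1 l hl]
  have : m ∈ l.image f := himg ▸ Finset.mem_filter.mpr ⟨mem_lines.mpr hm, hp⟩
  obtain ⟨q, hq, e⟩ := Finset.mem_image.mp this
  exact h q hq (e ▸ hqf q hq)

/-- The line through two points. -/
noncomputable def ln (L : Set (Finset α)) (a b : α) : Finset α :=
  Classical.epsilon fun l => l ∈ L ∧ a ∈ l ∧ b ∈ l

theorem IsPlane.ln_spec (P : IsPlane L) {a b : α} (hab : a ≠ b) :
    ln L a b ∈ L ∧ a ∈ ln L a b ∧ b ∈ ln L a b := by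
  obtain ⟨l, hl, ha, hb⟩ := P.exists_line hab
  exact Classical.epsilon_spec (p := fun l => l ∈ L ∧ a ∈ l ∧ b ∈ l) ⟨l, hl, ha, hb⟩

theorem IsPlane.eq_ln (P : IsPlane L) {a b : α} (hab : a ≠ b) {l : Finset α} (hl : l ∈ L)
    (ha : a ∈ l) (hb : b ∈ l) : l = ln L a b :=
  P.line_eq hl (P.ln_spec hab).1 hab ha hb (P.ln_spec hab).2.1 (P.ln_spec hab).2.2

theorem IsArc.eq_pair {S l : Finset α} (h : IsArc L S) (hl : l ∈ L) {a b : α} (hab : a ≠ b)
    (ha : a ∈ l ∧ a ∈ S) (hb : b ∈ l ∧ b ∈ S) : l ∩ S = {a, b} := by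
  refine (Finset.eq_of_subset_of_card_le ?_ ?_).symm
  · simp [Finset.insert_subset_iff, ha, hb]
  · rw [Finset.card_pair hab]; exact h l hl

theorem isArc_of_triples {S : Finset α}
    (h : ∀ a ∈ S, ∀ b ∈ S, ∀ c ∈ S, a ≠ b → a ≠ c → b ≠ c → ∀ l ∈ L, a ∈ l → b ∈ l → c ∉ l) :
    IsArc L S := by
  intro l hl
  by_contra hlt
  obtain ⟨a, b, c, ha, hb, hc, hab, hac, hbc⟩ := Finset.two_lt_card_iff.mp (not_le.mp hlt)
  rw [Finset.mem_inter] at ha hb hc
  exact h a ha.2 b hb.2 c hc.2 hab hac hbc l hl ha.1 hb.1 hc.1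

/-- The lines through two points of a set. -/
noncomputable def secants (L : Set (Finset α)) (S : Finset α) : Finset (Finset α) :=
  (lines L).filter fun l => 2 ≤ (l ∩ S).card

theorem IsPlane.card_secants (P : IsPlane L) {S : Finset α} (h : IsArc L S) :
    (secants L S).card = S.card.choose 2 := by
  rw [← Finset.card_powersetCard]
  refine Finset.card_bij (fun l _ => l ∩ S) ?_ ?_ ?_
  · intro l hl
    obtain ⟨h1, h2⟩ := Finset.mem_filter.mp hl
    exact Finset.mem_powersetCard.mpr ⟨Finset.inter_subset_right,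
      le_antisymm (h l (mem_lines.mp h1)) h2⟩
  · intro l hl m hm e
    obtain ⟨h1, h2⟩ := Finset.mem_filter.mp hl
    obtain ⟨a, b, ha, hb, hab⟩ := Finset.one_lt_card_iff.mp (show 1 < (l ∩ S).card by omega)
    have ha' : a ∈ m ∩ S := e ▸ ha
    have hb' : b ∈ m ∩ S := e ▸ hb
    rw [Finset.mem_inter] at ha hb ha' hb'
    exact P.line_eq (mem_lines.mp h1) (mem_lines.mp (Finset.mem_filter.mp hm).1) hab ha.1 hb.1
      ha'.1 hb'.1
  · intro Y hY
    obtain ⟨hYS, hY2⟩ := Finset.mem_powersetCard.mp hY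
    obtain ⟨a, b, hab, rfl⟩ := Finset.card_eq_two.mp hY2
    obtain ⟨hl, ha, hb⟩ := P.ln_spec hab
    have e := h.eq_pair hl hab ⟨ha, hYS (by simp)⟩ ⟨hb, hYS (by simp)⟩
    exact ⟨ln L a b, Finset.mem_filter.mpr ⟨mem_lines.mpr hl, by rw [e, hY2]⟩, e⟩

/-- The points outside `S` on no secant of `S`. -/
noncomputable def offSecants (L : Set (Finset α)) (S : Finset α) : Finset α :=
  Finset.univ.filter fun p => p ∉ S ∧ ∀ l ∈ secants L S, p ∉ l

theorem mem_offSecants {S : Finset α} {p : α} :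
    p ∈ offSecants L S ↔ p ∉ S ∧ ∀ l ∈ L, 2 ≤ (l ∩ S).card → p ∉ l := by
  unfold offSecants; rw [Finset.mem_filter]; simp only [Finset.mem_univ, true_and, secants, Finset.mem_filter, mem_lines, and_imp]

/-- Adding a point off the secants keeps an arc. -/
theorem IsPlane.arc_insert (P : IsPlane L) {S : Finset α} (h : IsArc L S) {p : α}
    (hp : p ∈ offSecants L S) : IsArc L (insert p S) := by
  obtain ⟨hpS, hp⟩ := mem_offSecants.mp hp
  intro l hl
  by_cases hpl : p ∈ l
  · rw [Finset.inter_comm, Finset.insert_inter_of_mem hpl, Finset.inter_comm]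
    have := mt (hp l hl) (not_not_intro hpl)
    exact (Finset.card_insert_le _ _).trans (by omega)
  · rw [Finset.inter_comm, Finset.insert_inter_of_notMem hpl, Finset.inter_comm]
    exact h l hl

theorem IsPlane.card_offSecants_three (P : IsPlane L) {S : Finset α} (h : IsArc L S)
    (hS : S.card = 3) : (offSecants L S).card = 9 := by
  set U := (secants L S).biUnion fun l => l \ S with hU
  have hUc : U.card = 9 := by
    rw [hU, Finset.card_biUnion, Finset.sum_congr rfl (g := fun _ => 3), Finset.sum_const,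
      P.card_secants h, hS]
    · rfl
    · intro l hl
      obtain ⟨hl, h2⟩ := Finset.mem_filter.mp hl
      have := Finset.card_sdiff_add_card_inter l S
      have := h l (mem_lines.mp hl)
      have := P.steiner.1 l (mem_lines.mp hl)
      omega
    · intro l hl m hm hne
      rw [Function.onFun, Finset.disjoint_left]
      intro x hx hx'
      rw [Finset.mem_sdiff] at hx hx'
      obtain ⟨hl, hl2⟩ := Finset.mem_filter.mp hl
      obtain ⟨hm, hm2⟩ := Finset.mem_filter.mp hm
      -- two of three points are shared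
      have hs : 0 < ((l ∩ S) ∩ (m ∩ S)).card := by
        have := Finset.card_union_add_card_inter (l ∩ S) (m ∩ S)
        have : ((l ∩ S) ∪ (m ∩ S)).card ≤ 3 := hS ▸ Finset.card_le_card
          (Finset.union_subset Finset.inter_subset_right Finset.inter_subset_right)
        omega
      obtain ⟨y, hy⟩ := Finset.card_pos.mp hs
      simp only [Finset.mem_inter] at hy
      exact hne (P.line_eq (mem_lines.mp hl) (mem_lines.mp hm)
        (show x ≠ y from fun e => hx.2 (e ▸ hy.1.2)) hx.1 hy.1.1 hx'.1 hy.2.1)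
  have e : offSecants L S = (Finset.univ \ S) \ U := by
    ext p
    simp only [offSecants, hU, Finset.mem_filter, Finset.mem_univ, true_and, Finset.mem_sdiff,
      Finset.mem_biUnion, not_exists, not_and]
    exact ⟨fun ⟨a, b⟩ => ⟨a, fun l hl hp => absurd hp (b l hl)⟩,
      fun ⟨a, b⟩ => ⟨a, fun l hl hp => b l hl hp a⟩⟩
  have hsub : U ⊆ Finset.univ \ S := by
    intro p hp
    simp only [hU, Finset.mem_biUnion, Finset.mem_sdiff] at hp
    obtain ⟨l, -, -, hp⟩ := hp
    simp [hp]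
  rw [e, Finset.card_sdiff_of_subset hsub, Finset.card_univ_diff, P.card_points, hS, hUc]

theorem IsPlane.completion (P : IsPlane L) {S : Finset α} (h : IsArc L S) (hS : S.card = 4) :
    IsArc L (S ∪ offSecants L S) ∧ (S ∪ offSecants L S).card = 6 := by
  obtain ⟨a, b, c, d, hab, hac, had, hbc, hbd, hcd, rfl⟩ := Finset.card_eq_four.mp hS
  set S : Finset α := {a, b, c, d} with hSdef
  set A := ln L a b; set B := ln L a c; set C := ln L a d
  set C' := ln L b c; set B' := ln L b d; set A' := ln L c d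
  have hA := P.ln_spec hab; have hB := P.ln_spec hac; have hC := P.ln_spec had
  have hC' := P.ln_spec hbc; have hB' := P.ln_spec hbd; have hA' := P.ln_spec hcd
  -- where a line through two points of S meets S
  have key : ∀ {x y : α}, x ≠ y → x ∈ S → y ∈ S → ∀ z ∈ ln L x y, z ∈ S → z = x ∨ z = y := by
    intro x y hxy hx hy z hz hzS
    obtain ⟨hl, hx', hy'⟩ := P.ln_spec hxy
    have : z ∈ ln L x y ∩ S := Finset.mem_inter.mpr ⟨hz, hzS⟩
    rw [h.eq_pair hl hxy ⟨hx', hx⟩ ⟨hy', hy⟩] at this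
    simpa using this
  have haS : a ∈ S := by simp [hSdef]
  have hbS : b ∈ S := by simp [hSdef]
  have hcS : c ∈ S := by simp [hSdef]
  have hdS : d ∈ S := by simp [hSdef]
  -- the six secants
  have hsec : secants L S = {A, B, C, C', B', A'} := by
    refine (Finset.eq_of_subset_of_card_le ?_ ?_).symm
    · intro l hl
      simp only [Finset.mem_insert, Finset.mem_singleton] at hl
      have : ∀ {x y : α}, x ≠ y → x ∈ S → y ∈ S → ln L x y ∈ secants L S := by
        intro x y hxy hx hy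
        obtain ⟨hm, hx', hy'⟩ := P.ln_spec hxy
        exact Finset.mem_filter.mpr ⟨mem_lines.mpr hm,
          by rw [h.eq_pair hm hxy ⟨hx', hx⟩ ⟨hy', hy⟩, Finset.card_pair hxy]⟩
      rcases hl with rfl | rfl | rfl | rfl | rfl | rfl
      exacts [this hab haS hbS, this hac haS hcS, this had haS hdS, this hbc hbS hcS,
        this hbd hbS hdS, this hcd hcS hdS]
    · rw [P.card_secants h, hS]
      have ne : ∀ {x y u : α} {l : Finset α}, x ≠ y → x ∈ S → y ∈ S → u ∈ S → u ≠ x → u ≠ y →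
          u ∈ l → ln L x y ≠ l := by
        intro x y u l hxy hx hy hu h1 h2 hul e
        rcases key hxy hx hy u (e ▸ hul) hu with h' | h'
        exacts [h1 h', h2 h']
      have n1 : A ∉ ({B, C, C', B', A'} : Finset (Finset α)) := by
        simp only [Finset.mem_insert, Finset.mem_singleton, not_or]
        exact ⟨ne hab haS hbS hcS hac.symm hbc.symm hB.2.2, ne hab haS hbS hdS had.symm hbd.symm hC.2.2,
          ne hab haS hbS hcS hac.symm hbc.symm hC'.2.2, ne hab haS hbS hdS had.symm hbd.symm hB'.2.2,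
          ne hab haS hbS hcS hac.symm hbc.symm hA'.2.1⟩
      have n2 : B ∉ ({C, C', B', A'} : Finset (Finset α)) := by
        simp only [Finset.mem_insert, Finset.mem_singleton, not_or]
        exact ⟨ne hac haS hcS hdS had.symm hcd.symm hC.2.2, ne hac haS hcS hbS hab.symm hbc hC'.2.1,
          ne hac haS hcS hbS hab.symm hbc hB'.2.1, ne hac haS hcS hdS had.symm hcd.symm hA'.2.2⟩
      have n3 : C ∉ ({C', B', A'} : Finset (Finset α)) := by
        simp only [Finset.mem_insert, Finset.mem_singleton, not_or]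
        exact ⟨ne had haS hdS hbS hab.symm hbd hC'.2.1, ne had haS hdS hbS hab.symm hbd hB'.2.1,
          ne had haS hdS hcS hac.symm hcd hA'.2.1⟩
      have n4 : C' ∉ ({B', A'} : Finset (Finset α)) := by
        simp only [Finset.mem_insert, Finset.mem_singleton, not_or]
        exact ⟨ne hbc hbS hcS hdS hbd.symm hcd.symm hB'.2.2, ne hbc hbS hcS hdS hbd.symm hcd.symm hA'.2.2⟩
      have n5 : B' ∉ ({A'} : Finset (Finset α)) := by
        simp only [Finset.mem_singleton]
        exact ne hbd hbS hdS hcS hbc.symm hcd hA'.2.1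
      rw [Finset.card_insert_of_notMem n1, Finset.card_insert_of_notMem n2,
        Finset.card_insert_of_notMem n3, Finset.card_insert_of_notMem n4,
        Finset.card_insert_of_notMem n5, Finset.card_singleton]
      rfl
  -- the three diagonal points
  obtain ⟨e, heA, heA'⟩ := P.meet hA.1 hA'.1
  obtain ⟨f, hfB, hfB'⟩ := P.meet hB.1 hB'.1
  obtain ⟨g, hgC, hgC'⟩ := P.meet hC.1 hC'.1
  have diag : ∀ {x y u v : α} {p : α}, x ≠ y → u ≠ v → x ∈ S → y ∈ S → u ∈ S → v ∈ S →
      u ≠ x → u ≠ y → v ≠ x → v ≠ y → p ∈ ln L x y → p ∈ ln L u v → p ∉ S := by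
    intro x y u v p hxy huv hx hy hu hv h1 h2 h3 h4 hp hp' hpS
    rcases key hxy hx hy p hp hpS with rfl | rfl <;>
      rcases key huv hu hv p hp' hpS with rfl | rfl <;>
      first | exact h1 rfl | exact h2 rfl | exact h3 rfl | exact h4 rfl
  have heS := diag hab hcd haS hbS hcS hdS hac.symm hbc.symm had.symm hbd.symm heA heA'
  have hfS := diag hac hbd haS hcS hbS hdS hab.symm hbc had.symm hcd.symm hfB hfB'
  have hgS := diag had hbc haS hdS hbS hcS hab.symm hbd hac.symm hcd hgC hgC'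
  set U := (secants L S).biUnion fun l => l \ S with hU
  have hcard3 : ∀ l ∈ secants L S, (l \ S).card = 3 := by
    intro l hl
    obtain ⟨hl, h2⟩ := Finset.mem_filter.mp hl
    have := Finset.card_sdiff_add_card_inter l S
    have := h l (mem_lines.mp hl)
    rw [P.steiner.1 l (mem_lines.mp hl)] at *
    omega
  have opp : ∀ {l m : Finset α} {p : α}, l ∈ L → m ∈ L → l ≠ m → p ∈ l → p ∈ m → p ∉ S →
      ((l \ S) ∪ (m \ S)).card = (l \ S).card + (m \ S).card - 1 := by
    intro l m p hl hm hne hpl hpm hpS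
    have h1 : ((l \ S) ∩ (m \ S)) = {p} := by
      refine Finset.eq_singleton_iff_unique_mem.mpr ⟨by simp [hpl, hpm, hpS], fun q hq => ?_⟩
      simp only [Finset.mem_inter, Finset.mem_sdiff] at hq
      by_contra hqp
      exact hne (P.line_eq hl hm hqp hq.1.1 hpl hq.2.1 hpm)
    have := Finset.card_union_add_card_inter (l \ S) (m \ S)
    rw [h1, Finset.card_singleton] at this
    omega
  have hmemS : ∀ l ∈ ({A, B, C, C', B', A'} : Finset (Finset α)), l ∈ secants L S := fun l hl =>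
    hsec ▸ hl
  have cA : (ln L a b \ S).card = 3 := hcard3 A (hmemS A (by simp))
  have cB : (ln L a c \ S).card = 3 := hcard3 B (hmemS B (by simp))
  have cC : (ln L a d \ S).card = 3 := hcard3 C (hmemS C (by simp))
  have cC' : (ln L b c \ S).card = 3 := hcard3 C' (hmemS C' (by simp))
  have cB' : (ln L b d \ S).card = 3 := hcard3 B' (hmemS B' (by simp))
  have cA' : (ln L c d \ S).card = 3 := hcard3 A' (hmemS A' (by simp))
  -- adjacent secants share only a point of S
  have adj : ∀ {l m : Finset α} {s : α}, l ∈ L → m ∈ L → l ≠ m → s ∈ S → s ∈ l → s ∈ m →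
      Disjoint (l \ S) (m \ S) := by
    intro l m s hl hm hne hs hsl hsm
    rw [Finset.disjoint_left]
    intro x hx hx'
    rw [Finset.mem_sdiff] at hx hx'
    exact hne (P.line_eq hl hm (show x ≠ s from fun e => hx.2 (e ▸ hs)) hx.1 hsl hx'.1 hsm)
  have dne : ∀ {x y u : α} {l : Finset α}, x ≠ y → x ∈ S → y ∈ S → u ∈ S → u ≠ x → u ≠ y →
      u ∈ l → ln L x y ≠ l := by
    intro x y u l hxy hx hy hu h1 h2 hul e
    rcases key hxy hx hy u (e ▸ hul) hu with h' | h'
    exacts [h1 h', h2 h']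
  have e1 := opp hA.1 hA'.1 (dne hab haS hbS hcS hac.symm hbc.symm hA'.2.1) heA heA' heS
  have e2 := opp hB.1 hB'.1 (dne hac haS hcS hbS hab.symm hbc hB'.2.1) hfB hfB' hfS
  have e3 := opp hC.1 hC'.1 (dne had haS hdS hbS hab.symm hbd hC'.2.1) hgC hgC' hgS
  have dAB : Disjoint ((A \ S) ∪ (A' \ S)) ((B \ S) ∪ (B' \ S)) := by
    rw [Finset.disjoint_union_left, Finset.disjoint_union_right, Finset.disjoint_union_right]
    exact ⟨⟨adj hA.1 hB.1 (dne hab haS hbS hcS hac.symm hbc.symm hB.2.2) haS hA.2.1 hB.2.1,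
      adj hA.1 hB'.1 (dne hab haS hbS hdS had.symm hbd.symm hB'.2.2) hbS hA.2.2 hB'.2.1⟩,
      adj hA'.1 hB.1 (dne hcd hcS hdS haS hac had hB.2.1) hcS hA'.2.1 hB.2.2,
      adj hA'.1 hB'.1 (dne hcd hcS hdS hbS hbc hbd hB'.2.1) hdS hA'.2.2 hB'.2.2⟩
  have dAC : Disjoint ((A \ S) ∪ (A' \ S)) ((C \ S) ∪ (C' \ S)) := by
    rw [Finset.disjoint_union_left, Finset.disjoint_union_right, Finset.disjoint_union_right]
    exact ⟨⟨adj hA.1 hC.1 (dne hab haS hbS hdS had.symm hbd.symm hC.2.2) haS hA.2.1 hC.2.1,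
      adj hA.1 hC'.1 (dne hab haS hbS hcS hac.symm hbc.symm hC'.2.2) hbS hA.2.2 hC'.2.1⟩,
      adj hA'.1 hC.1 (dne hcd hcS hdS haS hac had hC.2.1) hdS hA'.2.2 hC.2.2,
      adj hA'.1 hC'.1 (dne hcd hcS hdS hbS hbc hbd hC'.2.1) hcS hA'.2.1 hC'.2.2⟩
  have dBC : Disjoint ((B \ S) ∪ (B' \ S)) ((C \ S) ∪ (C' \ S)) := by
    rw [Finset.disjoint_union_left, Finset.disjoint_union_right, Finset.disjoint_union_right]
    exact ⟨⟨adj hB.1 hC.1 (dne hac haS hcS hdS had.symm hcd.symm hC.2.2) haS hB.2.1 hC.2.1,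
      adj hB.1 hC'.1 (dne hac haS hcS hbS hab.symm hbc hC'.2.1) hcS hB.2.2 hC'.2.2⟩,
      adj hB'.1 hC.1 (dne hbd hbS hdS haS hab had hC.2.1) hdS hB'.2.2 hC.2.2,
      adj hB'.1 hC'.1 (dne hbd hbS hdS hcS hbc.symm hcd hC'.2.2) hbS hB'.2.1 hC'.2.1⟩
  have hUeq : U = ((A \ S) ∪ (A' \ S)) ∪ ((B \ S) ∪ (B' \ S)) ∪ ((C \ S) ∪ (C' \ S)) := by
    rw [hU, hsec]
    ext x
    simp only [Finset.mem_biUnion, Finset.mem_insert, Finset.mem_singleton, Finset.mem_union,
      exists_eq_or_imp, exists_eq_left]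
    tauto
  have hUc : U.card = 15 := by
    rw [hUeq, Finset.card_union_of_disjoint (Finset.disjoint_union_left.mpr ⟨dAC, dBC⟩),
      Finset.card_union_of_disjoint dAB, e1, e2, e3, cA, cA', cB, cB', cC, cC']
  have hX : offSecants L S = (Finset.univ \ S) \ U := by
    ext p
    simp only [offSecants, hU, Finset.mem_filter, Finset.mem_univ, true_and, Finset.mem_sdiff,
      Finset.mem_biUnion, not_exists, not_and]
    exact ⟨fun ⟨a, b⟩ => ⟨a, fun l hl hp => absurd hp (b l hl)⟩,
      fun ⟨a, b⟩ => ⟨a, fun l hl hp => b l hl hp a⟩⟩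
  have hUsub : U ⊆ Finset.univ \ S := by
    intro p hp
    simp only [hU, Finset.mem_biUnion, Finset.mem_sdiff] at hp
    obtain ⟨l, -, -, hp⟩ := hp
    simp [hp]
  have hX2 : (offSecants L S).card = 2 := by
    rw [hX, Finset.card_sdiff_of_subset hUsub, Finset.card_univ_diff, P.card_points, hS, hUc]
  obtain ⟨x, y, hxy, hXxy⟩ := Finset.card_eq_two.mp hX2
  have hxX : x ∈ offSecants L S := by rw [hXxy]; simp
  have hyX : y ∈ offSecants L S := by rw [hXxy]; simp
  obtain ⟨hxS, hxl⟩ := mem_offSecants.mp hxX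
  obtain ⟨hyS, hyl⟩ := mem_offSecants.mp hyX
  have hdisj : Disjoint S (offSecants L S) :=
    Finset.disjoint_left.mpr fun p hp hp' => (mem_offSecants.mp hp').1 hp
  refine ⟨?_, by rw [Finset.card_union_of_disjoint hdisj, hX2, hS]⟩
  have hins : ∀ w ∈ offSecants L S, IsArc L (insert w S) := fun w hw => P.arc_insert h hw
  -- the line through x and y avoids S
  have hline : ∀ s ∈ S, s ∉ ln L x y := by
    intro s hs hsT
    obtain ⟨hT, hxT, hyT⟩ := P.ln_spec hxy
    set T := ln L x y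
    have hTS : T ∩ S = {s} := by
      refine Finset.eq_singleton_iff_unique_mem.mpr ⟨Finset.mem_inter.mpr ⟨hsT, hs⟩, fun t ht => ?_⟩
      by_contra hts
      refine hxl T hT ?_ hxT
      exact Finset.one_lt_card.mpr ⟨t, ht, s, Finset.mem_inter.mpr ⟨hsT, hs⟩, hts⟩
    obtain ⟨p, q, r, hpq, hpr, hqr, he⟩ := Finset.card_eq_three.mp
      (show (S.erase s).card = 3 by rw [Finset.card_erase_of_mem hs, hS])
    have hmem : ∀ w ∈ ({p, q, r} : Finset α), w ∈ S ∧ w ≠ s := fun w hw => by
      rw [← he, Finset.mem_erase] at hw; exact hw.symm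
    obtain ⟨hp, hps⟩ := hmem p (by simp); obtain ⟨hq, hqs⟩ := hmem q (by simp)
    obtain ⟨hr, hrs⟩ := hmem r (by simp)
    have pick : ∀ {u v : α}, u ≠ v → u ∈ S → v ∈ S → u ≠ s → v ≠ s →
        ∃ w, w ∈ ln L u v ∧ w ∈ T ∧ w ≠ s ∧ w ≠ x ∧ w ≠ y ∧ w ∉ S := by
      intro u v huv hu hv hus hvs
      obtain ⟨hl, hul, hvl⟩ := P.ln_spec huv
      obtain ⟨w, hwl, hwT⟩ := P.meet hl hT
      have h2 : 2 ≤ (ln L u v ∩ S).card := by
        rw [h.eq_pair hl huv ⟨hul, hu⟩ ⟨hvl, hv⟩, Finset.card_pair huv]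
      have hws : w ≠ s := by
        rintro rfl
        rcases key huv hu hv w hwl hs with rfl | rfl
        exacts [hus rfl, hvs rfl]
      refine ⟨w, hwl, hwT, hws, ?_, ?_, fun hwS => ?_⟩
      · rintro rfl; exact hxl _ hl h2 hwl
      · rintro rfl; exact hyl _ hl h2 hwl
      · have : w ∈ T ∩ S := Finset.mem_inter.mpr ⟨hwT, hwS⟩
        rw [hTS, Finset.mem_singleton] at this
        exact hws this
    obtain ⟨w1, h11, h12, h13, h14, h15, h16⟩ := pick hpq hp hq hps hqs
    obtain ⟨w2, h21, h22, h23, h24, h25, h26⟩ := pick hpr hp hr hps hrs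
    obtain ⟨w3, h31, h32, h33, h34, h35, h36⟩ := pick hqr hq hr hqs hrs
    have n12 : w1 ≠ w2 := by
      rintro rfl
      have := P.line_eq (P.ln_spec hpq).1 (P.ln_spec hpr).1 (show p ≠ w1 from fun e => h16 (e ▸ hp))
        (P.ln_spec hpq).2.1 h11 (P.ln_spec hpr).2.1 h21
      rcases key hpq hp hq r (this ▸ (P.ln_spec hpr).2.2) hr with h' | h'
      exacts [hpr h'.symm, hqr h'.symm]
    have n13 : w1 ≠ w3 := by
      rintro rfl
      have := P.line_eq (P.ln_spec hpq).1 (P.ln_spec hqr).1 (show q ≠ w1 from fun e => h16 (e ▸ hq))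
        (P.ln_spec hpq).2.2 h11 (P.ln_spec hqr).2.1 h31
      rcases key hpq hp hq r (this ▸ (P.ln_spec hqr).2.2) hr with h' | h'
      exacts [hpr h'.symm, hqr h'.symm]
    have n23 : w2 ≠ w3 := by
      rintro rfl
      have := P.line_eq (P.ln_spec hpr).1 (P.ln_spec hqr).1 (show r ≠ w2 from fun e => h26 (e ▸ hr))
        (P.ln_spec hpr).2.2 h21 (P.ln_spec hqr).2.2 h31
      rcases key hpr hp hr q (this ▸ (P.ln_spec hqr).2.1) hq with h' | h'
      exacts [hpq h'.symm, hqr h']
    have hsx : s ≠ x := fun e => hxS (e ▸ hs)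
    have hsy : s ≠ y := fun e => hyS (e ▸ hs)
    have hsub : ({s, x, y, w1, w2, w3} : Finset α) ⊆ T := by
      simp [Finset.insert_subset_iff, hsT, hxT, hyT, h12, h22, h32]
    have := Finset.card_le_card hsub
    rw [P.steiner.1 T hT, Finset.card_insert_of_notMem, Finset.card_insert_of_notMem,
      Finset.card_insert_of_notMem, Finset.card_insert_of_notMem, Finset.card_insert_of_notMem,
      Finset.card_singleton] at this
    · omega
    all_goals
      simp [hsx, hsy, hxy, n12, n13, n23, h13.symm, h14.symm, h15.symm, h23.symm, h24.symm,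
        h25.symm, h33.symm, h34.symm, h35.symm]
  rw [hXxy]
  intro l hl
  by_cases hboth : x ∈ l ∧ y ∈ l
  · have e := P.eq_ln hxy hl hboth.1 hboth.2
    have : l ∩ (S ∪ {x, y}) ⊆ {x, y} := by
      intro p hp
      obtain ⟨hpl, hp⟩ := Finset.mem_inter.mp hp
      rcases Finset.mem_union.mp hp with hp | hp
      · exact absurd (e ▸ hpl) (hline p hp)
      · exact hp
    exact (Finset.card_le_card this).trans (Finset.card_le_two)
  · rcases not_and_or.mp hboth with hn | hn
    · refine le_trans (Finset.card_le_card ?_) (hins y hyX l hl)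
      intro p hp
      simp only [Finset.mem_inter, Finset.mem_union, Finset.mem_insert, Finset.mem_singleton] at hp ⊢
      rcases hp with ⟨hpl, hp | rfl | rfl⟩
      exacts [⟨hpl, Or.inr hp⟩, absurd hpl hn, ⟨hpl, Or.inl rfl⟩]
    · refine le_trans (Finset.card_le_card ?_) (hins x hxX l hl)
      intro p hp
      simp only [Finset.mem_inter, Finset.mem_union, Finset.mem_insert, Finset.mem_singleton] at hp ⊢
      rcases hp with ⟨hpl, hp | rfl | rfl⟩
      exacts [⟨hpl, Or.inr hp⟩, ⟨hpl, Or.inl rfl⟩, absurd hpl hn]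

/-- Every four independent points lie in exactly one hyperoval. -/
theorem IsPlane.existsUnique_hyperoval (P : IsPlane L) {S : Finset α} (hS : S.card = 4)
    (h : IsArc L S) : ∃! H : Finset α, (H.card = 6 ∧ IsArc L H) ∧ S ⊆ H := by
  obtain ⟨harc, hcard⟩ := P.completion h hS
  refine ⟨S ∪ offSecants L S, ⟨⟨hcard, harc⟩, Finset.subset_union_left⟩, ?_⟩
  rintro H ⟨⟨hH6, hH⟩, hSH⟩
  refine Finset.eq_of_subset_of_card_le ?_ (by omega)
  intro p hp
  by_cases hpS : p ∈ S
  · exact Finset.mem_union_left _ hpS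
  refine Finset.mem_union_right _ (mem_offSecants.mpr ⟨hpS, fun l hl h2 hpl => ?_⟩)
  have : insert p (l ∩ S) ⊆ l ∩ H := by
    intro q hq
    rcases Finset.mem_insert.mp hq with rfl | hq
    · exact Finset.mem_inter.mpr ⟨hpl, hp⟩
    · exact Finset.inter_subset_inter le_rfl hSH hq
  have := (Finset.card_le_card this).trans (hH l hl)
  rw [Finset.card_insert_of_notMem (by simp [hpS])] at this
  omega

end Cfsg.Agent.PlaneFour
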